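import Groth.Agent.FlatInjDesc.Basic

/-! Flatness descends along a jointly injective family out of a ring with nilpotent maximal ideal. -/

universe u v w

open TensorProduct

namespace Groth.Agent.FlatNil5

open Groth.Agent.FlatInjDesc (mem_smul_ker)

theorem flat_of_family {A : Type u} [CommRing A] {I : Type*} {A' : I → Type v} [∀ i, CommRing (A' i)]
    [∀ i, Algebra A (A' i)] (hinj : ∀ a : A, (∀ i, algebraMap A (A' i) a = 0) → a = 0) (m : Ideal A) [m.IsMaximal]
    (hm : IsNilpotent m) (M : Type w) [AddCommGroup M] [Module A M]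
    (hflat : ∀ i, Module.Flat (A' i) (A' i ⊗[A] M)) : Module.Flat A M := by
  classical
  obtain ⟨N, hN⟩ := hm
  let _ := Ideal.Quotient.field m
  let b := Module.Free.chooseBasis (A ⧸ m) (M ⧸ (m • ⊤ : Submodule A M))
  let ι := Module.Free.ChooseBasisIndex (A ⧸ m) (M ⧸ (m • ⊤ : Submodule A M))
  choose x hx using fun i => Submodule.Quotient.mk_surjective (m • ⊤ : Submodule A M) (b i)
  let f : (ι →₀ A) →ₗ[A] M := Finsupp.linearCombination A x
  let g := (m • ⊤ : Submodule A M).mkQ.comp f
  let red : (ι →₀ A) →ₗ[A] (ι →₀ A ⧸ m) := Finsupp.mapRange.linearMap (Ideal.Quotient.mkₐ A m).toLinearMap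
  have hg : g = ((b.repr.symm : (ι →₀ A ⧸ m) →ₗ[A ⧸ m] _).restrictScalars A).comp red := by
    refine Finsupp.lhom_ext fun i a => ?_
    simp only [g, f, red, LinearMap.comp_apply, Submodule.mkQ_apply, Finsupp.linearCombination_single,
      Submodule.Quotient.mk_smul, hx, LinearMap.restrictScalars_apply, Finsupp.mapRange.linearMap_apply,
      Finsupp.mapRange_single, LinearEquiv.coe_coe, Module.Basis.repr_symm_single]
    rfl
  have hkerred : ∀ v, red v = 0 → v ∈ m • (⊤ : Submodule A (ι →₀ A)) := by
    intro v hv
    rw [← Finsupp.sum_single v]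
    refine Submodule.sum_mem _ fun i _ => ?_
    have : v i ∈ m := Ideal.Quotient.eq_zero_iff_mem.1 (by
      have := DFunLike.congr_fun hv i
      simpa [red] using this)
    rw [← mul_one (v i), ← smul_eq_mul, ← Finsupp.smul_single]
    exact Submodule.smul_mem_smul this trivial
  have hgker : ∀ v, g v = 0 → v ∈ m • (⊤ : Submodule A (ι →₀ A)) := fun v hv => hkerred v (by
    rw [hg] at hv
    exact b.repr.symm.injective (hv.trans (map_zero b.repr.symm).symm))
  have hgs : Function.Surjective g := by
    rw [hg]
    exact b.repr.symm.surjective.comp (Finsupp.mapRange_surjective _ (map_zero _) Ideal.Quotient.mk_surjective)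
  have hfs : Function.Surjective f := by
    have htop : ∀ k, LinearMap.range f ⊔ m ^ k • (⊤ : Submodule A M) = ⊤ := by
      intro k
      induction k with
      | zero => simp
      | succ k ih =>
        refine le_antisymm le_top (ih.ge.trans (sup_le le_sup_left ?_))
        have h1 : LinearMap.range f ⊔ m • (⊤ : Submodule A M) = ⊤ := eq_top_iff.2 fun y _ => by
          obtain ⟨v, hv⟩ := hgs (Submodule.Quotient.mk y)
          exact Submodule.mem_sup.2 ⟨f v, ⟨v, rfl⟩, y - f v, (Submodule.Quotient.eq _).1 hv.symm, by abel⟩
        conv_lhs => rw [← h1]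
        rw [Submodule.smul_sup, ← Submodule.mul_smul, ← pow_succ]
        exact sup_le_sup_right Submodule.smul_le_right _
    have := htop N
    rw [hN, Ideal.zero_eq_bot, Submodule.bot_smul, sup_bot_eq] at this
    exact LinearMap.range_eq_top.1 this
  have hfam : ∀ i, LinearMap.ker (f.baseChange (A' i)) = ⊥ := fun i => by
    haveI := hflat i
    let f' := f.baseChange (A' i)
    have hf's : Function.Surjective f' := LinearMap.lTensor_surjective (A' i) hfs
    let J : Ideal (A' i) := m.map (algebraMap A (A' i))
    have hker : LinearMap.ker f' ≤ J • LinearMap.ker f' := by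
      intro z hz
      refine mem_smul_ker f' hf's J hz ?_
      have hz' : g.lTensor (A' i) z = 0 := by
        show (Submodule.mkQ _ ∘ₗ f).lTensor (A' i) z = 0
        rw [LinearMap.lTensor_comp, LinearMap.comp_apply]
        show (m • ⊤ : Submodule A M).mkQ.lTensor (A' i) ((f.lTensor (A' i)) z) = 0
        rw [show f.lTensor (A' i) z = 0 from hz, map_zero]
      have hex : Function.Exact (LinearMap.ker g).subtype g := LinearMap.exact_subtype_ker_map g
      obtain ⟨y, rfl⟩ := ((lTensor_exact (R := A) (M := ↥(LinearMap.ker g)) (N := ι →₀ A) (P := M ⧸ (m • ⊤ : Submodule A M)) (f := (LinearMap.ker g).subtype) (g := g) (A' i) hex hgs) z).1 hz'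
      clear hz hz'
      induction y using TensorProduct.induction_on with
      | zero => simp
      | tmul a v =>
        rw [LinearMap.lTensor_tmul]
        have hv : (v : ι →₀ A) ∈ m • (⊤ : Submodule A (ι →₀ A)) := hgker v.1 v.2
        show a ⊗ₜ[A] (v : ι →₀ A) ∈ _
        refine Submodule.smul_induction_on hv (fun c hc w _ => ?_) (fun p q hp hq => ?_)
        · rw [TensorProduct.tmul_smul, ← IsScalarTower.algebraMap_smul (A' i) c]
          exact Submodule.smul_mem_smul (Ideal.mem_map_of_mem _ hc) trivial
        · rw [TensorProduct.tmul_add]; exact add_mem hp hq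
      | add p q hp hq => rw [map_add]; exact add_mem hp hq
    have hker0 : LinearMap.ker f' = ⊥ := by
      have h : ∀ k, LinearMap.ker f' ≤ J ^ k • LinearMap.ker f' := by
        intro k
        induction k with
        | zero => simp
        | succ k ih =>
          refine ih.trans ?_
          rw [pow_succ, Submodule.mul_smul]
          exact Submodule.smul_mono le_rfl hker
      refine le_bot_iff.1 ((h N).trans ?_)
      rw [← Ideal.map_pow, hN, Ideal.zero_eq_bot, Ideal.map_bot, Submodule.bot_smul]
    exact hker0
  have hfi : Function.Injective f := by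
    rw [injective_iff_map_eq_zero]
    intro v hv
    ext k
    refine hinj _ fun i => ?_
    have h1 : ((1 : A' i) ⊗ₜ[A] v) ∈ LinearMap.ker (f.baseChange (A' i)) := by
      rw [LinearMap.mem_ker, LinearMap.baseChange_tmul, hv, TensorProduct.tmul_zero]
    rw [hfam i, Submodule.mem_bot] at h1
    have h2 := congrArg ((Finsupp.lapply k).lTensor (A' i)) h1
    rw [map_zero, LinearMap.lTensor_tmul] at h2
    have h3 := congrArg (TensorProduct.rid A (A' i)) h2
    rw [map_zero, TensorProduct.rid_tmul, Algebra.smul_def, mul_one] at h3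
    exact h3
  exact Module.Flat.of_linearEquiv (LinearEquiv.ofBijective f ⟨hfi, hfs⟩).symm

end Groth.Agent.FlatNil5
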