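import Groth.Agent.FlatNil5.Family
import Mathlib

/-! Flatness over a semi-local ring with nilpotent radical. -/

set_option autoImplicit false

universe u

open TensorProduct

namespace Groth.Agent.FlatNil5

theorem flat_of_semilocal {A : Type u} [CommRing A] [Finite (MaximalSpectrum A)]
    (hnil : IsNilpotent (Ring.jacobson A)) {ι : Type*} (B : ι → Type u) [∀ i, CommRing (B i)] [∀ i, Algebra A (B i)]
    (hB : ∀ a : A, (∀ i, algebraMap A (B i) a = 0) → a = 0) (M : Type u) [AddCommGroup M] [Module A M]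
    (hflat : ∀ i, Module.Flat (B i) (B i ⊗[A] M)) : Module.Flat A M := by
  classical
  obtain ⟨n, hn⟩ := hnil
  haveI := Fintype.ofFinite (MaximalSpectrum A)
  -- idempotent-like elements
  have he : ∀ (m : Ideal A) [m.IsMaximal], ∃ e, e ∉ m ∧ ∀ x ∈ m ^ n, e * x = 0 := by
    intro m hm
    let P := ∏ q ∈ Finset.univ.erase (⟨m, hm⟩ : MaximalSpectrum A), q.asIdeal ^ n
    have hP : ¬ P ≤ m := by
      intro h
      obtain ⟨q, hq, hqm⟩ := (hm.isPrime.prod_le).1 h
      exact (Finset.mem_erase.1 hq).1 (MaximalSpectrum.ext (q.isMaximal.eq_of_le hm.ne_top (hm.isPrime.le_of_pow_le hqm)))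
    obtain ⟨e, heP, hem⟩ := SetLike.not_le_iff_exists.1 hP
    refine ⟨e, hem, fun x hx => ?_⟩
    have h1 : e * x ∈ m ^ n * P := by
      rw [mul_comm e x]; exact Ideal.mul_mem_mul hx heP
    have h2 : m ^ n * P = (∏ q : MaximalSpectrum A, q.asIdeal) ^ n := by
      rw [← Finset.prod_pow, ← Finset.mul_prod_erase _ _ (Finset.mem_univ (⟨m, hm⟩ : MaximalSpectrum A))]
    have h3 : (∏ q : MaximalSpectrum A, q.asIdeal) ^ n ≤ Ring.jacobson A ^ n := by
      refine pow_le_pow_left' ?_ n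
      rw [Ring.jacobson_eq_sInf_isMaximal]
      refine le_sInf fun q hq => ?_
      exact (Ideal.prod_le_inf).trans (Finset.inf_le (f := MaximalSpectrum.asIdeal) (Finset.mem_univ (⟨q, hq⟩ : MaximalSpectrum A)))
    have h4 := h3 (h2 ▸ h1)
    rwa [hn, Ideal.zero_eq_bot, Ideal.mem_bot] at h4
  have hunit : ∀ (m : Ideal A) [m.IsMaximal] (s : A), s ∉ m → ∃ r, r * s - 1 ∈ m ^ n := by
    intro m hm s hs
    have h1 : Ideal.span {s} ⊔ m = ⊤ := by
      rw [sup_comm]
      by_contra h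
      have := hm.eq_of_le h le_sup_left
      exact hs (this ▸ Ideal.mem_sup_right (Ideal.mem_span_singleton_self s))
    have h2 := Ideal.sup_pow_eq_top (n := n) h1
    obtain ⟨y, hy, z, hz, hyz⟩ := Submodule.mem_sup.1 (h2 ▸ Submodule.mem_top : (1 : A) ∈ _)
    obtain ⟨r, rfl⟩ := Ideal.mem_span_singleton'.1 hy
    refine ⟨r, ?_⟩
    rw [← hyz, show r * s - (r * s + z) = -z by ring]
    exact neg_mem hz
  have hloc : ∀ (m : Ideal A) [m.IsMaximal], IsLocalization m.primeCompl (A ⧸ m ^ n) := by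
    intro m hm
    obtain ⟨e, hem, hex⟩ := he m
    exact
      { map_units := fun s => by
          obtain ⟨r, hr⟩ := hunit m s s.2
          refine IsUnit.of_mul_eq_one (Ideal.Quotient.mk _ r) ?_
          rw [Ideal.Quotient.algebraMap_eq, ← map_mul, ← map_one (Ideal.Quotient.mk (m ^ n))]
          exact Ideal.Quotient.eq.2 (by rwa [mul_comm])
        surj := fun z => by
          obtain ⟨z, rfl⟩ := Ideal.Quotient.mk_surjective z
          exact ⟨(z, 1), by simp⟩
        exists_of_eq := fun {x y} h => ⟨⟨e, hem⟩, by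
          have := hex (x - y) (Ideal.Quotient.eq.1 h)
          rw [mul_sub, sub_eq_zero] at this
          exact this⟩ }
  let Mp : ∀ (P : Ideal A) [P.IsMaximal], Type u := fun P _ => (A ⧸ P ^ n) ⊗[A] M
  let fp : ∀ (P : Ideal A) [P.IsMaximal], M →ₗ[A] Mp P := fun P _ => TensorProduct.mk A (A ⧸ P ^ n) M 1
  have inst : ∀ (P : Ideal A) [P.IsMaximal], IsLocalizedModule.AtPrime P (fp P) :=
    fun m _ => haveI := hloc m
      (isLocalizedModule_iff_isBaseChange m.primeCompl (A ⧸ m ^ n) _).2 (TensorProduct.isBaseChange A M _)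
  refine @Module.flat_of_isLocalized_maximal A A _ _ _ M _ _ _ _ Mp _ _ _ _ fp inst fun m hm => ?_
  haveI := hloc m
  obtain ⟨e, hem, hex⟩ := he m
  haveI : Module.Flat A (A ⧸ m ^ n) := IsLocalization.flat _ m.primeCompl
  suffices Module.Flat (A ⧸ m ^ n) ((A ⧸ m ^ n) ⊗[A] M) from Module.Flat.trans A (A ⧸ m ^ n) _
  rcases Nat.eq_zero_or_pos n with hn0 | hn0
  · subst hn0
    rw [pow_zero, Ideal.zero_eq_bot, Ideal.one_eq_top] at hn
    haveI : Subsingleton A := (subsingleton_iff_zero_eq_one).1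
      ((Ideal.mem_bot.1 (hn ▸ Submodule.mem_top : (1 : A) ∈ (⊥ : Ideal A))).symm)
    exact absurd (Subsingleton.elim m ⊤) hm.ne_top
  let J : ∀ i, Ideal (B i) := fun i => (m ^ n).map (algebraMap A (B i))
  let q : ∀ i, A ⧸ m ^ n →ₐ[A] B i ⧸ J i := fun i =>
    Ideal.quotientMapₐ _ (Algebra.ofId A (B i)) fun a ha => Ideal.mem_map_of_mem _ ha
  letI : ∀ i, Algebra (A ⧸ m ^ n) (B i ⧸ J i) := fun i => (q i).toRingHom.toAlgebra
  haveI : ∀ i, IsScalarTower A (A ⧸ m ^ n) (B i ⧸ J i) := fun i => .of_algebraMap_eq fun a => ((q i).commutes a).symm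
  haveI : (m.map (Ideal.Quotient.mk (m ^ n))).IsMaximal :=
    Ideal.IsMaximal.map_of_surjective_of_ker_le Ideal.Quotient.mk_surjective
      (by rw [Ideal.mk_ker]; exact Ideal.pow_le_self hn0.ne')
  refine flat_of_family (A' := fun i => B i ⧸ J i) ?_ (m.map (Ideal.Quotient.mk (m ^ n))) ⟨n, ?_⟩ _ fun i => ?_
  · intro a ha
    obtain ⟨a, rfl⟩ := Ideal.Quotient.mk_surjective a
    have h0 : e * a = 0 := hB _ fun i => by
      have h1 : algebraMap A (B i) a ∈ J i := Ideal.Quotient.eq_zero_iff_mem.1 (ha i)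
      have h2 : algebraMap A (B i) e * algebraMap A (B i) a ∈ (Ideal.span {e} * m ^ n).map (algebraMap A (B i)) := by
        rw [Ideal.map_mul]
        exact Ideal.mul_mem_mul (Ideal.mem_map_of_mem _ (Ideal.mem_span_singleton_self e)) h1
      have h3 : Ideal.span {e} * m ^ n = ⊥ := by
        refine le_bot_iff.1 (Ideal.mul_le.2 fun y hy x hx => ?_)
        obtain ⟨r, rfl⟩ := Ideal.mem_span_singleton'.1 hy
        rw [mul_assoc, hex x hx, mul_zero]
        exact Submodule.zero_mem _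
      rw [h3, Ideal.map_bot, Ideal.mem_bot, ← map_mul] at h2
      exact h2
    obtain ⟨r, hr⟩ := hunit m e hem
    refine Ideal.Quotient.eq_zero_iff_mem.2 ?_
    have := Ideal.mul_mem_right a _ hr
    rw [sub_mul, mul_assoc, h0, mul_zero, one_mul, zero_sub] at this
    exact neg_mem_iff.1 this
  · rw [← Ideal.map_pow, Ideal.map_quotient_self, Ideal.zero_eq_bot]
  · haveI := hflat i
    exact Module.Flat.of_linearEquiv
      ((TensorProduct.AlgebraTensorModule.cancelBaseChange A (A ⧸ m ^ n) (B i ⧸ J i) (B i ⧸ J i) M).trans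
        (TensorProduct.AlgebraTensorModule.cancelBaseChange A (B i) (B i ⧸ J i) (B i ⧸ J i) M).symm)

end Groth.Agent.FlatNil5
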